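import Groth.Agent.SSMod.K755.Plan3
import Groth.Agent.SSMod.K971.BaseChange
import Groth.Agent.FibDim.K582.RelDim
import Groth.Agent.CurvesB.NodalPostcomp

/-!
# Stable modifications over an open subscheme of the base

`K263.OpenBase.main : K755.SSPlan.PostOpen`: a stable modification which is an isomorphism on generic fibres over an
integral `S₀`, for `j : S₀ ⟶ S` a quasi-compact open immersion into an integral scheme, is one over `S`.
-/

set_option autoImplicit false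
universe u
open CategoryTheory CategoryTheory.Limits AlgebraicGeometry TopologicalSpace

namespace K263.OpenBase

variable {X S₀ S : Scheme.{u}}

theorem isPullback_mono (ψ : X ⟶ S₀) (j : S₀ ⟶ S) [Mono j] : IsPullback (𝟙 X) ψ (ψ ≫ j) j := by
  have h1 : IsPullback (𝟙 X) ψ ψ (𝟙 S₀) := IsPullback.of_horiz_isIso ⟨by simp⟩
  have h2 : IsPullback (𝟙 S₀) (𝟙 S₀) j j := IsKernelPair.id_of_mono j
  simpa using h1.paste_vert h2

theorem hasRelDim (ψ : X ⟶ S₀) [LocallyOfFiniteType ψ] (j : S₀ ⟶ S) [IsOpenImmersion j] {d : ℕ}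
    (h : Cyc.HasRelDim ψ d) : Cyc.HasRelDim (ψ ≫ j) d := by
  rw [K582.FibRelDim.hasRelDim_iff] at h ⊢
  intro x
  exact (Groth.Agent.Ega4fib.H172.FibDimBC.fibreDimAt_of_isPullback
    (isPullback_mono ψ j) x).symm.trans (h x)

theorem nonsmoothPts_subset (ψ : X ⟶ S₀) [LocallyOfFinitePresentation ψ] (j : S₀ ⟶ S)
    [IsOpenImmersion j] : DualGr.nonsmoothPts (ψ ≫ j) ⊆ DualGr.nonsmoothPts ψ := by
  intro x hx hx'
  apply hx
  obtain ⟨U, hU, hs⟩ := (Groth.Agent.UnramA.NearPoint.exists_smooth_nhd_iff ψ x).2 hx'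
  refine (Groth.Agent.UnramA.NearPoint.exists_smooth_nhd_iff (ψ ≫ j) x).1 ⟨U, hU, ?_⟩
  rw [← Category.assoc]
  infer_instance

theorem isMPCurve {C D : Scheme.{u}} {φ : C ⟶ S₀} {i : D ⟶ C} (h : SSMod.IsMPCurve φ i)
    (j : S₀ ⟶ S) [IsOpenImmersion j] [QuasiCompact j] : SSMod.IsMPCurve (φ ≫ j) i := by
  obtain ⟨h1, h2, h3, h4, h5, h6, h7, h8, h9⟩ := h
  refine ⟨inferInstance, inferInstance, inferInstance, inferInstance, hasRelDim φ j h5, h6,
    ?_, ?_, ?_⟩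
  · rw [← Category.assoc]; infer_instance
  · rw [← Category.assoc]; infer_instance
  · rw [← Category.assoc]; exact hasRelDim (i ≫ φ) j h9

theorem isSemistable {C D : Scheme.{u}} {φ : C ⟶ S₀} {i : D ⟶ C} (h : SSMod.IsSemistable φ i)
    (j : S₀ ⟶ S) [IsOpenImmersion j] [QuasiCompact j] : SSMod.IsSemistable (φ ≫ j) i := by
  obtain ⟨h1, h2, h3, h4⟩ := h
  have := h1.2.1
  refine ⟨isMPCurve h1 j, Groth.Agent.CurvesB.NodalPostcomp.isNodalFamily_postcomp_etale φ j h2, ?_,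
    h4.mono_right (nonsmoothPts_subset φ j)⟩
  rw [← Category.assoc]
  infer_instance

/-- Transport of exceptional components along isomorphisms of the source and the target. -/
theorem isExcComp_image {Ω : Type u} [Field Ω] {X' X Y' Y : Scheme.{u}} {f : X' ⟶ X}
    {J' : Y' ⟶ X'} [IsIso J'] {fY : Y' ⟶ Y} {J : Y ⟶ X} (w : J' ≫ f = fY ≫ J)
    {M Z : Set Y'} {M' : Set X'} (hM : ∀ y, y ∈ M ↔ J' y ∈ M') (hZ : Z ∈ irreducibleComponents Y')
    {q' : X' ⟶ Spec (CommRingCat.of Ω)} {qY : Y' ⟶ Spec (CommRingCat.of Ω)}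
    (hqY : qY = J' ≫ q') (h : SSMod.IsExcComp Ω fY qY M Z) :
    J'.base '' Z ∈ irreducibleComponents X' ∧ SSMod.IsExcComp Ω f q' M' (J'.base '' Z) := by
  subst hqY
  obtain ⟨⟨e, he, heq, hr⟩, hcard, hsub⟩ := h
  have hZc : IsClosed Z := isClosed_of_mem_irreducibleComponents Z hZ
  have hw : ∀ y, f (J' y) = J (fY y) := fun y => by
    rw [← Scheme.Hom.comp_apply, ← Scheme.Hom.comp_apply, w]
  have hclosed : IsClosed (J'.base '' Z) := J'.homeomorph.isClosedMap _ hZc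
  refine ⟨K971.SSRestrict.image_mem_irreducibleComponents J'.isOpenEmbedding hZ hclosed,
    ⟨e ≫ J', inferInstance, ?_, ?_⟩, ?_, ?_⟩
  · rw [Category.assoc, heq]
  · rw [← hr, ← Set.range_comp]
    rfl
  · have : J'.base '' Z ∩ (M' ∪ DualGr.nonsmoothPts q') =
        J'.base '' (Z ∩ (M ∪ DualGr.nonsmoothPts (J' ≫ q'))) := by
      have hiff : ∀ z, J' z ∈ M' ∪ DualGr.nonsmoothPts q' ↔
          z ∈ M ∪ DualGr.nonsmoothPts (J' ≫ q') := fun z => by
        rw [Set.mem_union, Set.mem_union, hM z]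
        refine or_congr Iff.rfl ?_
        exact not_congr
          (Groth.Agent.UnramA.NearPoint.stalkMap_comp_of_isOpenImmersion_formallySmooth J' q' z).symm
      ext x
      constructor
      · rintro ⟨⟨z, hz, rfl⟩, hx⟩
        exact ⟨z, ⟨hz, (hiff z).1 hx⟩, rfl⟩
      · rintro ⟨z, ⟨hz, hz2⟩, rfl⟩
        exact ⟨⟨z, hz, rfl⟩, (hiff z).2 hz2⟩
    rw [this, Set.InjOn.encard_image (J'.isOpenEmbedding.injective.injOn)]
    exact hcard
  · rintro _ ⟨_, ⟨z, hz, rfl⟩, rfl⟩ _ ⟨_, ⟨z', hz', rfl⟩, rfl⟩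
    rw [hw, hw, hsub ⟨z, hz, rfl⟩ ⟨z', hz', rfl⟩]

theorem noExcComp {C C' D' : Scheme.{u}} {φ : C ⟶ S₀} {fC : C' ⟶ C}
    {i' : D' ⟶ C'} (h : SSMod.NoExcComp φ i' fC) (j : S₀ ⟶ S) [IsOpenImmersion j] :
    SSMod.NoExcComp (φ ≫ j) i' fC := by
  intro Ω _ _ g Z hZ hexc
  obtain ⟨x, hx⟩ : Z.Nonempty := hZ.1.1
  have hr : Set.range g.base ⊆ Set.range j.base := by
    rintro _ ⟨w, rfl⟩
    have hw : w = pullback.snd (fC ≫ φ ≫ j) g x := Subsingleton.elim _ _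
    refine ⟨φ (fC (pullback.fst (fC ≫ φ ≫ j) g x)), ?_⟩
    have h1 := congrArg (fun f => f x) (pullback.condition (f := fC ≫ φ ≫ j) (g := g))
    simp only [Scheme.Hom.comp_apply] at h1
    rw [hw]
    exact h1
  obtain ⟨g₀, rfl⟩ : ∃ g₀ : Spec (CommRingCat.of Ω) ⟶ S₀, g₀ ≫ j = g :=
    ⟨IsOpenImmersion.lift j g hr, IsOpenImmersion.lift_fac j g hr⟩
  have s1 : IsPullback (pullback.fst (fC ≫ φ ≫ j) (g₀ ≫ j)) (pullback.snd (fC ≫ φ ≫ j) (g₀ ≫ j))
      (fC ≫ φ) g₀ := by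
    have h1 := isPullback_mono (fC ≫ φ) j
    have h2 := isPullback_mono g₀ j
    have h3 : pullback.fst (fC ≫ φ ≫ j) (g₀ ≫ j) ≫ fC ≫ φ =
        pullback.snd (fC ≫ φ ≫ j) (g₀ ≫ j) ≫ g₀ := by
      rw [← cancel_mono j]
      simpa using pullback.condition (f := fC ≫ φ ≫ j) (g := g₀ ≫ j)
    refine ⟨⟨h3⟩, ⟨PullbackCone.IsLimit.mk _ (fun s => pullback.lift s.fst s.snd
      (by rw [← Category.assoc fC φ j, ← Category.assoc, s.condition, Category.assoc]))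
      (fun s => pullback.lift_fst _ _ _) (fun s => pullback.lift_snd _ _ _)
      (fun s m h4 h5 => pullback.hom_ext (h4.trans (pullback.lift_fst _ _ _).symm)
        (h5.trans (pullback.lift_snd _ _ _).symm))⟩⟩
  have s2 : IsPullback (pullback.fst (φ ≫ j) (g₀ ≫ j)) (pullback.snd (φ ≫ j) (g₀ ≫ j))
      φ g₀ := by
    have h3 : pullback.fst (φ ≫ j) (g₀ ≫ j) ≫ φ =
        pullback.snd (φ ≫ j) (g₀ ≫ j) ≫ g₀ := by
      rw [← cancel_mono j]
      simpa using pullback.condition (f := φ ≫ j) (g := g₀ ≫ j)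
    refine ⟨⟨h3⟩, ⟨PullbackCone.IsLimit.mk _ (fun s => pullback.lift s.fst s.snd
      (by rw [← Category.assoc, s.condition, Category.assoc]))
      (fun s => pullback.lift_fst _ _ _) (fun s => pullback.lift_snd _ _ _)
      (fun s m h4 h5 => pullback.hom_ext (h4.trans (pullback.lift_fst _ _ _).symm)
        (h5.trans (pullback.lift_snd _ _ _).symm))⟩⟩
  let J' : pullback (fC ≫ φ ≫ j) (g₀ ≫ j) ⟶ pullback (fC ≫ φ) g₀ := s1.isoPullback.hom
  have hJ'1 : J' ≫ pullback.fst (fC ≫ φ) g₀ = pullback.fst (fC ≫ φ ≫ j) (g₀ ≫ j) :=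
    s1.isoPullback_hom_fst
  have hJ'2 : J' ≫ pullback.snd (fC ≫ φ) g₀ = pullback.snd (fC ≫ φ ≫ j) (g₀ ≫ j) :=
    s1.isoPullback_hom_snd
  let J : pullback (φ ≫ j) (g₀ ≫ j) ⟶ pullback φ g₀ := s2.isoPullback.hom
  have hJ1 : J ≫ pullback.fst φ g₀ = pullback.fst (φ ≫ j) (g₀ ≫ j) := s2.isoPullback_hom_fst
  have hJ2 : J ≫ pullback.snd φ g₀ = pullback.snd (φ ≫ j) (g₀ ≫ j) := s2.isoPullback_hom_snd
  have hJo : IsIso J := inferInstanceAs (IsIso s2.isoPullback.hom)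
  have hJo' : IsIso J' := inferInstanceAs (IsIso s1.isoPullback.hom)
  have hcomm : J' ≫ CInt.baseChangeOver fC φ g₀ =
      CInt.baseChangeOver fC (φ ≫ j) (g₀ ≫ j) ≫ J := by
    apply pullback.hom_ext
    · calc (J' ≫ CInt.baseChangeOver fC φ g₀) ≫ pullback.fst φ g₀
          = J' ≫ CInt.baseChangeOver fC φ g₀ ≫ pullback.fst φ g₀ := Category.assoc _ _ _
        _ = J' ≫ pullback.fst (fC ≫ φ) g₀ ≫ fC :=
          congrArg (J' ≫ ·) (K971.SSRestrict.baseChangeOver_fst fC φ g₀)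
        _ = (J' ≫ pullback.fst (fC ≫ φ) g₀) ≫ fC := (Category.assoc _ _ _).symm
        _ = pullback.fst (fC ≫ φ ≫ j) (g₀ ≫ j) ≫ fC := congrArg (· ≫ fC) hJ'1
        _ = CInt.baseChangeOver fC (φ ≫ j) (g₀ ≫ j) ≫ pullback.fst (φ ≫ j) (g₀ ≫ j) :=
          (K971.SSRestrict.baseChangeOver_fst fC (φ ≫ j) (g₀ ≫ j)).symm
        _ = CInt.baseChangeOver fC (φ ≫ j) (g₀ ≫ j) ≫ J ≫ pullback.fst φ g₀ :=
          congrArg (CInt.baseChangeOver fC (φ ≫ j) (g₀ ≫ j) ≫ ·) hJ1.symm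
        _ = (CInt.baseChangeOver fC (φ ≫ j) (g₀ ≫ j) ≫ J) ≫ pullback.fst φ g₀ :=
          (Category.assoc _ _ _).symm
    · calc (J' ≫ CInt.baseChangeOver fC φ g₀) ≫ pullback.snd φ g₀
          = J' ≫ CInt.baseChangeOver fC φ g₀ ≫ pullback.snd φ g₀ := Category.assoc _ _ _
        _ = J' ≫ pullback.snd (fC ≫ φ) g₀ :=
          congrArg (J' ≫ ·) (K971.SSRestrict.baseChangeOver_snd fC φ g₀)
        _ = pullback.snd (fC ≫ φ ≫ j) (g₀ ≫ j) := hJ'2
        _ = CInt.baseChangeOver fC (φ ≫ j) (g₀ ≫ j) ≫ pullback.snd (φ ≫ j) (g₀ ≫ j) :=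
          (K971.SSRestrict.baseChangeOver_snd fC (φ ≫ j) (g₀ ≫ j)).symm
        _ = CInt.baseChangeOver fC (φ ≫ j) (g₀ ≫ j) ≫ J ≫ pullback.snd φ g₀ :=
          congrArg (CInt.baseChangeOver fC (φ ≫ j) (g₀ ≫ j) ≫ ·) hJ2.symm
        _ = (CInt.baseChangeOver fC (φ ≫ j) (g₀ ≫ j) ≫ J) ≫ pullback.snd φ g₀ :=
          (Category.assoc _ _ _).symm
  obtain ⟨h1, h2⟩ := isExcComp_image (Ω := Ω) (f := CInt.baseChangeOver fC φ g₀) hcomm
    (M := (pullback.fst (fC ≫ φ ≫ j) (g₀ ≫ j)).base ⁻¹' Set.range i'.base)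
    (M' := (pullback.fst (fC ≫ φ) g₀).base ⁻¹' Set.range i'.base)
    (q' := pullback.snd (fC ≫ φ) g₀) (qY := pullback.snd (fC ≫ φ ≫ j) (g₀ ≫ j)) (fun y => by
      rw [Set.mem_preimage, Set.mem_preimage]
      have : (pullback.fst (fC ≫ φ) g₀).base (J' y) =
          (pullback.fst (fC ≫ φ ≫ j) (g₀ ≫ j)).base y := by
        have h := congrArg (fun f => f.base y) hJ'1
        simpa using h
      rw [this]) hZ hJ'2.symm hexc
  exact h Ω g₀ _ h1 h2

theorem isMPModification {C D C' D' : Scheme.{u}} {φ : C ⟶ S₀} {i : D ⟶ C} {i' : D' ⟶ C'}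
    {fC : C' ⟶ C} {fD : D' ⟶ D} (h : SSMod.IsMPModification φ i i' fC fD) (j : S₀ ⟶ S)
    [IsOpenImmersion j] [QuasiCompact j] : SSMod.IsMPModification (φ ≫ j) i i' fC fD := by
  obtain ⟨h1, h2, h3, h4⟩ := h
  refine ⟨h1, ?_, h3, h4⟩
  rw [← Category.assoc]
  exact isMPCurve h2 j

theorem isSemistableModification {C D C' D' : Scheme.{u}} {φ : C ⟶ S₀} {i : D ⟶ C} {i' : D' ⟶ C'}
    {fC : C' ⟶ C} {fD : D' ⟶ D} (h : SSMod.IsSemistableModification φ i i' fC fD) (j : S₀ ⟶ S)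
    [IsOpenImmersion j] [QuasiCompact j] : SSMod.IsSemistableModification (φ ≫ j) i i' fC fD := by
  refine ⟨isMPModification h.1 j, ?_⟩
  rw [← Category.assoc]
  exact isSemistable h.2 j

theorem isStableModification {C D C' D' : Scheme.{u}} {φ : C ⟶ S₀}
    {i : D ⟶ C} {i' : D' ⟶ C'} {fC : C' ⟶ C} {fD : D' ⟶ D}
    (h : SSMod.IsStableModification φ i i' fC fD) (j : S₀ ⟶ S)
    [IsOpenImmersion j] [QuasiCompact j] : SSMod.IsStableModification (φ ≫ j) i i' fC fD := by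
  exact ⟨isSemistableModification h.1 j, noExcComp h.2 j⟩

theorem isEtaIso [IsIntegral S₀] [IsIntegral S] {C C' : Scheme.{u}} {φ : C ⟶ S₀} {fC : C' ⟶ C}
    (h : SSMod.IsEtaIso φ fC) (j : S₀ ⟶ S) [IsOpenImmersion j] : SSMod.IsEtaIso (φ ≫ j) fC := by
  have hj : j (genericPoint S₀) = genericPoint S := genericPoint_eq_of_isOpenImmersion j
  apply K971.SSBasic.isEtaIso_of_forall
  intro T P p q t sq a ha
  refine K971.SSBasic.isIso_of_isEtaIso h sq
    (a ≫ Spec.map (S.presheaf.stalkSpecializes (specializes_of_eq hj.symm)) ≫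
      inv (Spec.map (j.stalkMap (genericPoint S₀)))) ?_
  rw [← cancel_mono j, Category.assoc, ha, Category.assoc, Category.assoc, Category.assoc,
    ← Scheme.SpecMap_stalkMap_fromSpecStalk, IsIso.inv_hom_id_assoc,
    Scheme.SpecMap_stalkSpecializes_fromSpecStalk]

theorem main : K755.SSPlan.PostOpen.{u} := by
  intro S₀ S C D Cst Dst _ _ j _ _ φ i ist fC fD h h1 h2
  refine ⟨isStableModification h j, isEtaIso h1 j, ?_⟩
  rw [← Category.assoc]
  exact isEtaIso h2 j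

end K263.OpenBase
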